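import Cfsg.Agent.Spor3T.QuadCount
import Cfsg.Agent.Spor3T.M24PairRigid

/-!
Type M(24): an automorphism of the commutator subgroup maps products of two commuting members to such
products, and respects the relation of sharing a member.
-/

set_option autoImplicit false
set_option linter.unusedSectionVars false
set_option linter.style.haveILetI false

namespace CfsgLib.Coset.Fi24Out

open CfsgLib.ThreeT CfsgLib.ThreeT.Prod
open scoped commutatorElement

variable {G : Type*} [Group G] [Finite G] {D : Set G}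

theorem nb_symm {a b : G} (ha : a ∈ D) (hb : b ∈ nb D a) : a ∈ nb D b :=
  ⟨ha, hb.2.1.symm, hb.2.2.symm⟩

/-- A product of two commuting distinct members. -/
def Pr (D : Set G) (x : G) : Prop := ∃ a ∈ D, ∃ b ∈ nb D a, a * b = x

/-- Two products of two with exactly one common factor. -/
def Share (D : Set G) (x y : G) : Prop :=
  ∃ a ∈ D, ∃ b ∈ nb D a, ∃ c ∈ nb D a, b ≠ c ∧ Commute b c ∧ a * b = x ∧ a * c = y

variable {d : G} (P : Point24 D d)

include P

theorem pr_mem {x : G} (h : Pr D x) : x ∈ commutator G := by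
  obtain ⟨a, ha, b, hb, rfl⟩ := h
  rw [Subgroup.mul_mem_iff_of_index_two (index_commutator24 P)]
  exact iff_of_false (notMem_commutator24 P ha) (notMem_commutator24 P hb.1)

theorem pair_unique {a b c e : G} (ha : a ∈ D) (hb : b ∈ nb D a) (hc : c ∈ D) (he : e ∈ nb D c)
    (h : a * b = c * e) : (a = c ∧ b = e) ∨ (a = e ∧ b = c) := by
  rcases pair_eq P.base.tt ha hb.1 hc he.1 hb.2.2 he.2.2 hb.2.1.symm he.2.1.symm h with q | q | q
  · exact Or.inl q
  · exact Or.inr q
  · exact absurd (P.base.twinFree a ha b hb.1 (P.base.ne_one a ha) (P.base.ne_one b hb.1) q) hb.2.1.symm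

theorem facs_two_iff {x : G} : Pr D x ↔ Facs D 2 x := by
  constructor
  · rintro ⟨a, ha, b, hb, rfl⟩
    exact ⟨[a, b], by simpa using hb.2.1.symm, rfl, by simpa using ⟨ha, hb.1⟩,
      by simpa using ⟨hb.2.2, hb.2.2.symm⟩, by simp⟩
  · rintro ⟨l, hn, hl, hm, hc, rfl⟩
    obtain ⟨a, b, rfl⟩ := List.length_eq_two.1 hl
    exact ⟨a, hm a (by simp), b, ⟨hm b (by simp), by simpa [eq_comm] using hn, hc a (by simp) b (by simp)⟩,
      by simp⟩

/-- Two products with the same number of factors are conjugate inside the commutator subgroup. -/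
theorem facs_conj_in {i : ℕ} (h1 : 1 ≤ i) (h4 : i ≤ 4) {x y : G} (hx : Facs D i x) (hy : Facs D i y) :
    ∃ g ∈ commutator G, g * x * g⁻¹ = y := by
  obtain ⟨g, hg⟩ := isConj_iff.1 (facs_conj24 P h1 h4 hx hy)
  by_cases hgL : g ∈ commutator G
  · exact ⟨g, hgL, hg⟩
  obtain ⟨l, hn, hl, hm, hc, rfl⟩ := hx
  obtain ⟨a, t, rfl⟩ : ∃ a t, l = a :: t := by
    cases l with
    | nil => simp at hl; omega
    | cons a t => exact ⟨a, t, rfl⟩
  have haD := hm a List.mem_cons_self
  refine ⟨g * a, ?_, ?_⟩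
  · rw [Subgroup.mul_mem_iff_of_index_two (index_commutator24 P)]
    exact iff_of_false hgL (notMem_commutator24 P haD)
  · have hcp : Commute a (a :: t).prod :=
      Commute.list_prod_right _ _ fun z hz => hc a List.mem_cons_self z hz
    rw [show g * a * (a :: t).prod * (g * a)⁻¹ = g * (a * (a :: t).prod * a⁻¹) * g⁻¹ by group,
      hcp.eq, mul_inv_cancel_right, hg]

/-- The order of the centraliser of a product of two. -/
theorem card_cent_pair {a b : G} (ha : a ∈ D) (hb : b ∈ nb D a) :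
    31671 * Nat.card ↥(Subgroup.centralizer ({a * b} : Set G)) = 2 * 8178940946586009600 := by
  have hT := P.base.tt
  have hab : b ≠ a := hb.2.1
  have e1 : Nat.card ↥(Subgroup.centralizer ({a} : Set G)) =
      31671 * Nat.card ↥(Subgroup.centralizer ({a} : Set G) ⊓ Subgroup.centralizer ({b} : Set G)) := by
    refine card_cent_step (card_nb24 P ha) (fun g hg => ?_) fun y hy => ?_
    · exact nb_conj hT hb.1 hb.2.1 hb.2.2 (fix_of_commute (mem_cent_one.1 hg))
    · obtain ⟨g, g1, g2⟩ := Prod.pair_conj P.base ha hb ha hy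
      exact ⟨g, mem_cent_one.2 (commute_of_fix g1), g2⟩
  have e2 : Nat.card ↥(Subgroup.centralizer ({a * b} : Set G)) =
      2 * Nat.card ↥(Subgroup.centralizer ({a * b} : Set G) ⊓ Subgroup.centralizer ({a} : Set G)) := by
    refine card_cent_step (O := {a, b}) (Set.ncard_pair hab.symm) (fun g hg => ?_) fun y hy => ?_
    · have hgc := mem_cent_one.1 hg
      have heq : g * a * g⁻¹ * (g * b * g⁻¹) = a * b := by
        rw [show g * a * g⁻¹ * (g * b * g⁻¹) = g * (a * b) * g⁻¹ by group, hgc.eq, mul_inv_cancel_right]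
      have hb' : g * b * g⁻¹ ∈ nb D (g * a * g⁻¹) := (mem_nb_conj hT g).2 hb
      rcases pair_unique P (hT.conj g a ha) hb' ha hb heq with ⟨q, -⟩ | ⟨q, -⟩
      · exact Or.inl q
      · exact Or.inr q
    · rcases hy with rfl | rfl
      · exact ⟨1, one_mem _, by simp⟩
      · obtain ⟨g, g1, g2⟩ := Prod.pair_conj P.base ha hb hb.1 (nb_symm ha hb)
        refine ⟨g, mem_cent_one.2 (commute_of_fix ?_), g1⟩
        rw [show g * (a * y) * g⁻¹ = g * a * g⁻¹ * (g * y * g⁻¹) by group, g1, g2, hb.2.2.eq]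
  have e3 : Subgroup.centralizer ({a * b} : Set G) ⊓ Subgroup.centralizer ({a} : Set G) =
      Subgroup.centralizer ({a} : Set G) ⊓ Subgroup.centralizer ({b} : Set G) := by
    ext g
    simp only [Subgroup.mem_inf, mem_cent_one]
    constructor
    · rintro ⟨h1, h2⟩
      refine ⟨h2, ?_⟩
      rw [show b = a⁻¹ * (a * b) by group]
      exact h2.inv_right.mul_right h1
    · rintro ⟨h1, h2⟩
      exact ⟨h1.mul_right h2, h1⟩
  have h0 := card_hsub24 P ha
  rw [hsub_eq24 P ha, e1] at h0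
  rw [e2, e3]
  omega

/-- The centraliser of a product of four contains the permutations of its factors. -/
theorem quad_dvd {t a b c e : G} (h : Quad D t a b c e) :
    24 * 106168320 ∣ Nat.card ↥(Subgroup.centralizer ({t} : Set G)) := by
  have hT := P.base.tt
  have nb' : ∀ {x u v w : G}, Quad D t x u v w → u ∈ nb D x ∧ v ∈ nb D x ∧ w ∈ nb D x := fun h =>
    ⟨⟨h.hb, h.nab.symm, h.ab⟩, ⟨h.hc, h.nac.symm, h.ac⟩, ⟨h.he, h.nae.symm, h.ae⟩⟩
  let S : Subgroup G :=
    { carrier := {g | g * t * g⁻¹ = t ∧ ∀ x, g * x * g⁻¹ ∈ ({a, b, c, e} : Set G) ↔ x ∈ ({a, b, c, e} : Set G)}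
      one_mem' := ⟨by simp, fun x => by simp⟩
      mul_mem' := by
        rintro g h ⟨g1, g2⟩ ⟨h1, h2⟩
        refine ⟨?_, fun x => ?_⟩
        · rw [show g * h * t * (g * h)⁻¹ = g * (h * t * h⁻¹) * g⁻¹ by group, h1, g1]
        · rw [show g * h * x * (g * h)⁻¹ = g * (h * x * h⁻¹) * g⁻¹ by group, g2, h2]
      inv_mem' := by
        rintro g ⟨g1, g2⟩
        refine ⟨?_, fun x => ?_⟩
        · conv_lhs => rw [← g1]
          group
        · rw [← g2, show g * (g⁻¹ * x * g⁻¹⁻¹) * g⁻¹ = x by group] }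
  have hS : S ≤ Subgroup.centralizer ({t} : Set G) := fun g hg => mem_cent_one.2 (commute_of_fix hg.1)
  have perm : ∀ {x u v w : G}, Quad D t x u v w → ({x, u, v, w} : Set G) = {a, b, c, e} →
      ∃ g ∈ S, g * a * g⁻¹ = x ∧ g * b * g⁻¹ = u ∧ g * c * g⁻¹ = v ∧ g * e * g⁻¹ = w := by
    intro x u v w hq hset
    obtain ⟨g, g1, g2, g3, g4⟩ := quad_conj P hq.ha (nb' hq).1 (nb' hq).2.1 (nb' hq).2.2 hq.nbc hq.nbe hq.nce
      hq.bc hq.be hq.ce h.ha (nb' h).1 (nb' h).2.1 (nb' h).2.2 h.nbc h.nbe h.nce h.bc h.be h.ce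
    refine ⟨g, ⟨?_, fun z => ?_⟩, g1, g2, g3, g4⟩
    · rw [← h.prod]
      calc g * (a * b * c * e) * g⁻¹ = g * a * g⁻¹ * (g * b * g⁻¹) * (g * c * g⁻¹) * (g * e * g⁻¹) := by group
        _ = a * b * c * e := by rw [g1, g2, g3, g4, hq.prod, h.prod]
    · conv_lhs => rw [← hset, ← g1, ← g2, ← g3, ← g4]
      simp only [Set.mem_insert_iff, Set.mem_singleton_iff, mul_left_inj, mul_right_inj]
  set A := Subgroup.centralizer ({a} : Set G) with hA
  set B := Subgroup.centralizer ({b} : Set G) with hB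
  set C := Subgroup.centralizer ({c} : Set G) with hC
  have e1 : Nat.card ↥S = 4 * Nat.card ↥(S ⊓ A) := by
    refine card_cent_step (O := {a, b, c, e}) ?_ (fun g hg => (hg.2 a).2 (Or.inl rfl)) fun y hy => ?_
    · rw [Set.ncard_insert_of_notMem (by simp [h.nab, h.nac, h.nae]),
        Set.ncard_insert_of_notMem (by simp [h.nbc, h.nbe]), Set.ncard_pair h.nce]
    · obtain ⟨u, v, w, hq, hset⟩ := h.first hy
      obtain ⟨g, hg, g1, -⟩ := perm hq hset
      exact ⟨g, hg, g1⟩
  have e2 : Nat.card ↥(S ⊓ A) = 3 * Nat.card ↥(S ⊓ A ⊓ B) := by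
    refine card_cent_step (O := {b, c, e}) ?_ (fun g hg => ?_) fun y hy => ?_
    · rw [Set.ncard_insert_of_notMem (by simp [h.nbc, h.nbe]), Set.ncard_pair h.nce]
    · obtain ⟨g1, g2⟩ := Subgroup.mem_inf.1 hg
      rcases (g1.2 b).2 (Or.inr (Or.inl rfl)) with q | q
      · exact absurd (mul_left_cancel (mul_right_cancel
          (q.trans (fix_of_commute (mem_cent_one.1 g2)).symm))) h.nab.symm
      · exact q
    · have hF : IsQuad D t ({a, b, c, e} : Set G) := ⟨a, b, c, e, h, rfl⟩
      have hne : a ≠ y := by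
        rcases hy with rfl | rfl | rfl
        exacts [h.nab, h.nac, h.nae]
      obtain ⟨v, w, hq, hset⟩ := hF.pair (Or.inl rfl) (Or.inr hy) hne
      obtain ⟨g, hg, g1, g2, -⟩ := perm hq hset
      exact ⟨g, Subgroup.mem_inf.2 ⟨hg, mem_cent_one.2 (commute_of_fix g1)⟩, g2⟩
  have e3 : Nat.card ↥(S ⊓ A ⊓ B) = 2 * Nat.card ↥(S ⊓ A ⊓ B ⊓ C) := by
    refine card_cent_step (O := {c, e}) (Set.ncard_pair h.nce) (fun g hg => ?_) fun y hy => ?_
    · obtain ⟨g12, g3⟩ := Subgroup.mem_inf.1 hg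
      obtain ⟨g1, g2⟩ := Subgroup.mem_inf.1 g12
      rcases (g1.2 c).2 (Or.inr (Or.inr (Or.inl rfl))) with q | q | q
      · exact absurd (mul_left_cancel (mul_right_cancel
          (q.trans (fix_of_commute (mem_cent_one.1 g2)).symm))) h.nac.symm
      · exact absurd (mul_left_cancel (mul_right_cancel
          (q.trans (fix_of_commute (mem_cent_one.1 g3)).symm))) h.nbc.symm
      · exact q
    · rcases hy with rfl | rfl
      · exact ⟨1, one_mem _, by simp⟩
      · obtain ⟨g, hg, g1, g2, g3, -⟩ := perm h.swap34 (by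
          ext z; simp only [Set.mem_insert_iff, Set.mem_singleton_iff]; tauto)
        exact ⟨g, Subgroup.mem_inf.2 ⟨Subgroup.mem_inf.2 ⟨hg, mem_cent_one.2 (commute_of_fix g1)⟩,
          mem_cent_one.2 (commute_of_fix g2)⟩, g3⟩
  have e4 : S ⊓ A ⊓ B ⊓ C = A ⊓ B ⊓ C ⊓ Subgroup.centralizer ({e} : Set G) := by
    ext g
    constructor
    · intro hg
      obtain ⟨⟨⟨gS, g1⟩, g2⟩, g3⟩ : ((g ∈ S ∧ g ∈ A) ∧ g ∈ B) ∧ g ∈ C := hg
      refine ⟨⟨⟨g1, g2⟩, g3⟩, mem_cent_one.2 ?_⟩
      rw [show e = (a * b * c)⁻¹ * t by rw [← h.prod]; group]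
      exact ((((mem_cent_one.1 g1).mul_right (mem_cent_one.1 g2)).mul_right (mem_cent_one.1 g3)).inv_right).mul_right
        (commute_of_fix gS.1)
    · intro hg
      obtain ⟨⟨⟨g1, g2⟩, g3⟩, g4⟩ : ((g ∈ A ∧ g ∈ B) ∧ g ∈ C) ∧ g ∈ Subgroup.centralizer ({e} : Set G) := hg
      have f1 := fix_of_commute (mem_cent_one.1 g1)
      have f2 := fix_of_commute (mem_cent_one.1 g2)
      have f3 := fix_of_commute (mem_cent_one.1 g3)
      have f4 := fix_of_commute (mem_cent_one.1 g4)
      refine ⟨⟨⟨⟨fix_of_commute ?_, fun x => ?_⟩, g1⟩, g2⟩, g3⟩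
      · rw [← h.prod]
        exact (((mem_cent_one.1 g1).mul_right (mem_cent_one.1 g2)).mul_right (mem_cent_one.1 g3)).mul_right
          (mem_cent_one.1 g4)
      · conv_lhs => rw [← f1, ← f2, ← f3, ← f4]
        simp only [Set.mem_insert_iff, Set.mem_singleton_iff, mul_left_inj, mul_right_inj]
  rw [e4, card_cent_quad P h] at e3
  rw [e3] at e2
  rw [e2] at e1
  have := Subgroup.card_dvd_of_le hS
  rw [e1] at this
  simpa using this

/-- The centraliser in the commutator subgroup of such a product has index two in the centraliser. -/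
theorem card_cent_comm {i : ℕ} (h1 : 1 ≤ i) {x : G} (hx : Facs D i x) :
    Nat.card ↥(Subgroup.centralizer ({x} : Set G)) =
      2 * Nat.card ↥(commutator G ⊓ Subgroup.centralizer ({x} : Set G)) := by
  obtain ⟨l, hn, hl, hm, hc, rfl⟩ := hx
  obtain ⟨a, t, rfl⟩ : ∃ a t, l = a :: t := by
    cases l with
    | nil => simp at hl; omega
    | cons a t => exact ⟨a, t, rfl⟩
  set C := Subgroup.centralizer ({(a :: t).prod} : Set G)
  have haC : a ∈ C := mem_cent_one.2 (Commute.list_prod_right _ _ fun z hz => hc a List.mem_cons_self z hz)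
  have hidx : ((commutator G).subgroupOf C).index = 2 :=
    ((Nat.dvd_prime Nat.prime_two).1
      (index_commutator24 P ▸ Subgroup.relIndex_dvd_index_of_normal _ _)).resolve_left fun r =>
        notMem_commutator24 P (hm a List.mem_cons_self) (Subgroup.relIndex_eq_one.1 r haC)
  have := Subgroup.card_mul_index ((commutator G).subgroupOf C)
  rw [hidx] at this
  rw [← this, show Nat.card ↥((commutator G).subgroupOf C) = Nat.card ↥(commutator G ⊓ C) from
    Nat.card_congr ((MulEquiv.subgroupCongr (show (commutator G).subgroupOf C = (commutator G ⊓ C).subgroupOf C by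
      rw [Subgroup.inf_subgroupOf_right])).trans (Subgroup.subgroupOfEquivOfLe inf_le_right)).toEquiv]
  ring

/-- The image under an automorphism of the commutator subgroup. -/
noncomputable def im (φ : MulAut ↥(commutator G)) (x : G) : G := by
  classical exact if h : x ∈ commutator G then ((φ ⟨x, h⟩ : ↥(commutator G)) : G) else 1

end CfsgLib.Coset.Fi24Out
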