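import Cfsg.Agent.Coset.Fi24Out.Partners

/-!
Type M(24): every automorphism of the commutator subgroup extends to an automorphism of the group preserving
the transpositions; if these are inner, the outer automorphism group of the commutator subgroup has order two.
-/

set_option autoImplicit false
set_option linter.unusedSectionVars false
set_option linter.style.haveILetI false

namespace CfsgLib.Coset.Fi24Out

open CfsgLib.ThreeT CfsgLib.ThreeT.Prod

variable {G : Type*} [Group G] [Finite G] {D : Set G}

/-- Conjugation on the transpositions. -/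
def onD (hT : TT0 D) : G →* Equiv.Perm ↥D where
  toFun g :=
    { toFun := fun a => ⟨g * a * g⁻¹, hT.conj g a a.2⟩
      invFun := fun a => ⟨g⁻¹ * a * g, by simpa using hT.conj g⁻¹ a a.2⟩
      left_inv := fun a => Subtype.ext (show g⁻¹ * (g * a * g⁻¹) * g = a by group)
      right_inv := fun a => Subtype.ext (show g * (g⁻¹ * a * g) * g⁻¹ = a by group) }
  map_one' := Equiv.ext fun a => Subtype.ext (show (1 : G) * a * 1⁻¹ = a by group)
  map_mul' g h := Equiv.ext fun a => Subtype.ext
    (show g * h * a * (g * h)⁻¹ = g * (h * a * h⁻¹) * g⁻¹ by group)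

theorem onD_apply (hT : TT0 D) (g : G) (a : ↥D) : ((onD hT g a : ↥D) : G) = g * a * g⁻¹ := rfl

theorem onD_injective (hT : TT0 D) (hgen : Subgroup.closure D = ⊤) (hc : Subgroup.center G = ⊥) :
    Function.Injective (onD hT) := by
  refine (injective_iff_map_eq_one _).2 fun g hg => ?_
  rw [← Subgroup.mem_bot, ← hc, ← Subgroup.centralizer_univ, ← Subgroup.coe_top, ← hgen,
    Subgroup.centralizer_closure, Subgroup.mem_centralizer_iff]
  intro a ha
  have h := congrArg (fun σ : Equiv.Perm ↥D => ((σ ⟨a, ha⟩ : ↥D) : G)) hg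
  simp only [onD_apply, Equiv.Perm.one_apply] at h
  exact (commute_of_fix h).eq.symm

variable {d : G} (P : Point24 D d)

include P

/-- The permutation of the transpositions given by an automorphism of the commutator subgroup. -/
noncomputable def psiPerm (φ : MulAut ↥(commutator G)) : Equiv.Perm ↥D where
  toFun a := ⟨psi D φ a, psi_mem P φ a.2⟩
  invFun a := ⟨psi D φ.symm a, psi_mem P φ.symm a.2⟩
  left_inv a := Subtype.ext (psi_symm P φ a.2)
  right_inv a := Subtype.ext (psi_symm P φ.symm a.2)

theorem psiPerm_apply (φ : MulAut ↥(commutator G)) (a : ↥D) :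
    ((psiPerm P φ a : ↥D) : G) = psi D φ a := rfl

theorem psiPerm_conj (φ : MulAut ↥(commutator G)) {g h : G}
    (hgh : ∀ a ∈ D, psi D φ (g * a * g⁻¹) = h * psi D φ a * h⁻¹) :
    psiPerm P φ * onD P.base.tt g * (psiPerm P φ)⁻¹ = onD P.base.tt h := by
  rw [mul_inv_eq_iff_eq_mul]
  exact Equiv.ext fun a => Subtype.ext (hgh a a.2)

/-- Every automorphism of the commutator subgroup extends. -/
theorem exists_extension (hgen : Subgroup.closure D = ⊤) (φ : MulAut ↥(commutator G)) :
    ∃ Φ : MulAut G, (∀ a ∈ D, Φ a ∈ D) ∧ ∀ l : ↥(commutator G), Φ l = ((φ l : ↥(commutator G)) : G) := by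
  have hT := P.base.tt
  have hinj := onD_injective hT hgen P.base.center
  set M := onD hT
  set C : G →* Equiv.Perm ↥D := (MulAut.conj (psiPerm P φ)).toMonoidHom.comp M with hC
  have hCa : ∀ g, C g = psiPerm P φ * M g * (psiPerm P φ)⁻¹ := fun g => rfl
  have hD : ∀ t ∈ D, C t = M (psi D φ t) := fun t ht => by
    rw [hCa]
    refine psiPerm_conj P φ fun a ha => ?_
    rw [hT.inv ht, hT.inv (psi_mem P φ ht), psi_refl P φ ht ha]
  have hrange : ∀ g, C g ∈ M.range := by
    have hle : Subgroup.closure D ≤ M.range.comap C :=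
      (Subgroup.closure_le _).2 fun t ht => ⟨psi D φ t, (hD t ht).symm⟩
    intro g
    exact hle (hgen ▸ Subgroup.mem_top g)
  set e := MonoidHom.ofInjective hinj
  let F : G →* G := e.symm.toMonoidHom.comp (C.codRestrict M.range hrange)
  have hF : ∀ g, M (F g) = C g := fun g => by
    have := e.apply_symm_apply (C.codRestrict M.range hrange g)
    exact congrArg Subtype.val this
  have hFinj : Function.Injective F := fun x y h => by
    have h' : C x = C y := by rw [← hF, ← hF, h]
    rw [hCa, hCa] at h'
    exact hinj (mul_left_cancel (mul_right_cancel h'))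
  refine ⟨MulEquiv.ofBijective F (Finite.injective_iff_bijective.1 hFinj), fun a ha => ?_, fun l => ?_⟩
  · have : F a = psi D φ a := hinj ((hF a).trans (hD a ha))
    show F a ∈ D
    rw [this]
    exact psi_mem P φ ha
  · show F (l : G) = _
    refine hinj ((hF _).trans ?_)
    rw [hCa, ← im_coe]
    exact psiPerm_conj P φ fun a ha => psi_conj P φ ha l.2

theorem conjNormal_injective (hgen : Subgroup.closure D = ⊤) :
    Function.Injective (MulAut.conjNormal : G →* MulAut ↥(commutator G)) := by
  have hT := P.base.tt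
  refine (injective_iff_map_eq_one _).2 fun g hg => ?_
  have hfix : ∀ x ∈ commutator G, g * x * g⁻¹ = x := fun x hx => by
    have h := congrArg (fun σ : MulAut ↥(commutator G) => ((σ ⟨x, hx⟩ : ↥(commutator G)) : G)) hg
    simpa [MulAut.conjNormal_apply] using h
  apply onD_injective hT hgen P.base.center
  rw [map_one]
  refine Equiv.ext fun a => Subtype.ext ?_
  obtain ⟨a, ha⟩ := a
  show g * a * g⁻¹ = a
  have key : ∀ b ∈ nb D a, g * a * g⁻¹ = a ∨ g * a * g⁻¹ = b := fun b hb =>
    end_two P ⟨hT.conj g a ha, g * b * g⁻¹, (mem_nb_conj hT g).2 hb, by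
      rw [show g * a * g⁻¹ * (g * b * g⁻¹) = g * (a * b) * g⁻¹ by group,
        hfix _ (pr_mem P ⟨a, ha, b, hb, rfl⟩)]⟩ ha hb
  obtain ⟨b, hb, -⟩ := exists_other P (card_nb24 P ha) ∅ (by simp)
  obtain ⟨c, hc, hcb⟩ := exists_other P (card_nb24 P ha) {b} (by simp)
  rcases key b hb with e | e
  · exact e
  rcases key c hc with e' | e'
  · exact e'
  · exact absurd (e'.symm.trans e) hcb

/-- The outer automorphism group of the commutator subgroup, if the group has no outer automorphisms
preserving the transpositions. -/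
theorem card_out_commutator (hgen : Subgroup.closure D = ⊤)
    (hinn : ∀ Φ : MulAut G, (∀ a ∈ D, Φ a ∈ D) → ∃ g : G, MulAut.conj g = Φ) :
    Nat.card (Cfsg.Out ↥(commutator G)) = 2 := by
  set θ : G →* MulAut ↥(commutator G) := MulAut.conjNormal
  have hinj : Function.Injective θ := conjNormal_injective P hgen
  have hsurj : Function.Surjective θ := fun φ => by
    obtain ⟨Φ, hΦ, hl⟩ := exists_extension P hgen φ
    obtain ⟨g, rfl⟩ := hinn Φ hΦ
    exact ⟨g, MulEquiv.ext fun l => Subtype.ext (by rw [MulAut.conjNormal_apply, ← hl l]; rfl)⟩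
  have hI : (Cfsg.Inn ↥(commutator G)) = (commutator G).map θ := by
    ext f
    constructor
    · rintro ⟨l, rfl⟩
      exact ⟨l, l.2, MulEquiv.ext fun x => Subtype.ext (by rw [MulAut.conjNormal_apply]; rfl)⟩
    · rintro ⟨l, hl, rfl⟩
      exact ⟨⟨l, hl⟩, MulEquiv.ext fun x => Subtype.ext (by rw [MulAut.conjNormal_apply]; rfl)⟩
  show (Cfsg.Inn ↥(commutator G)).index = 2
  rw [hI, Subgroup.index_map, (MonoidHom.ker_eq_bot_iff θ).2 hinj, sup_bot_eq,
    MonoidHom.range_eq_top.2 hsurj, Subgroup.index_top, mul_one, index_commutator24 P]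

end CfsgLib.Coset.Fi24Out
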