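import Cfsg.Agent.Coset.Fi24.M24
import Cfsg.Agent.Coset.Fi23Out.Out

/-!
Every automorphism of `Fi24` preserving the class of transpositions is inner.
-/

set_option autoImplicit false
set_option maxRecDepth 100000
set_option Elab.async false
set_option linter.style.haveILetI false

namespace CfsgLib.Coset.Fi24

open CfsgLib.Coset

theorem tau_cases (e : Multiplicative (ZMod 2)) : e = 1 ∨ e = tau := by
  revert e; decide +kernel

theorem tau_ne_one : tau ≠ 1 := by decide +kernel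

theorem ρ_s : ρ s = act ((1 : Cfsg.Spor.Fi23), tau) := by rw [← Ψ_tau, ρ_Ψ]

theorem px_zero : px 0 = none := by
  rw [px, show MD.X.getD ((0 : Fin 8) : Nat) (0, []) = (0, []) by decide +kernel]; simp [pt, bpt]

theorem px_one : px 1 = pK := by
  rw [px, show MD.X.getD ((1 : Fin 8) : Nat) (0, []) = (2, []) by decide +kernel, pt_two]

theorem px_two : px 2 = ρ s pK := by
  have h : ev la [0] = ((1 : Cfsg.Spor.Fi23), tau) := by rw [ev_cons, ev_nil, mul_one, fl_la_zero]
  have hi : ((1 : Cfsg.Spor.Fi23), tau)⁻¹ = (((1 : Cfsg.Spor.Fi23), tau) : A) :=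
    inv_eq_of_mul_eq_one_right (Prod.ext (one_mul _) tau_sq)
  rw [px, show MD.X.getD ((2 : Fin 8) : Nat) (0, []) = (2, [0]) by decide +kernel, ρ_s, ← pt_two]
  simp only [pt, bpt]
  rw [h, ← map_inv, hi, ev_nil, map_one, inv_one, Equiv.Perm.one_apply]

theorem conj_eq_of_point {g h : Cfsg.Spor.Fi24} (e : ρ g none = ρ h none) :
    g * s * g⁻¹ = h * s * h⁻¹ := by
  have h1 : ρ (h⁻¹ * g) none = none := by
    rw [map_mul, Equiv.Perm.mul_apply, e, map_inv, Equiv.Perm.inv_def, Equiv.symm_apply_apply]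
  have h2 := comm_iff.2 h1
  calc g * s * g⁻¹ = h * (h⁻¹ * g * s * (h⁻¹ * g)⁻¹) * h⁻¹ := by group
    _ = _ := by rw [h2]

/-- The points fixed by `K2`. -/
theorem fixed_point {ω : Om} (h : ∀ a ∈ K2, act a ω = ω) :
    ω = none ∨ ω = pK ∨ ω = ρ s pK := by
  obtain ⟨i, k, hk, rfl⟩ := cover ω
  have hi : act k (px i) = px i := by
    have h1 := h k⁻¹ (inv_mem hk)
    rw [map_inv, Equiv.Perm.inv_def, Equiv.symm_apply_apply] at h1
    exact h1.symm
  rw [hi] at h ⊢
  have hs := orbit_size i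
  rw [show (Set.range fun k : K2 => act k (px i)) = {px i} from Set.eq_singleton_iff_unique_mem.2
    ⟨⟨1, by simp⟩, by rintro _ ⟨⟨a, ha⟩, rfl⟩; exact h a ha⟩, Set.ncard_singleton] at hs
  have key : ∀ j : Fin 8, MD.sizes.getD j 0 = 1 → j = 0 ∨ j = 1 ∨ j = 2 := by decide +kernel
  rcases key i hs.symm with rfl | rfl | rfl
  · exact Or.inl px_zero
  · exact Or.inr (Or.inl px_one)
  · exact Or.inr (Or.inr px_two)

theorem s_braid : s * kk * s = kk * s * kk := by
  have hk2 : kk⁻¹ = kk := inv_eq_of_mul_eq_one_right k_sq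
  have e3 : kk * s * kk * s * kk * s = 1 := by
    rw [← kl_cube]; simp only [kk, pow_succ, pow_zero, one_mul, mul_assoc]
  calc s * kk * s = (kk * s * kk)⁻¹ * (kk * s * kk * s * kk * s) := by group
    _ = (kk * s * kk)⁻¹ := by rw [e3, mul_one]
    _ = kk * s * kk := by
      rw [mul_inv_rev, mul_inv_rev, hk2, inv_eq_of_mul_eq_one_right s_sq, mul_assoc]

/-- An automorphism fixing `kk` and the copy of `Fi23 × 2` is trivial. -/
theorem eq_one_of_fix {Φ : MulAut Cfsg.Spor.Fi24} (hΨ : ∀ a, Φ (frame.Ψ a) = frame.Ψ a)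
    (hk : Φ kk = kk) : Φ = 1 := by
  refine MulEquiv.ext fun x => ?_
  have hx : x ∈ Subgroup.closure {y | y ∈ Lg} := by rw [frame.gen]; exact Subgroup.mem_top x
  induction hx using Subgroup.closure_induction with
  | mem y hy =>
    obtain ⟨l, hl, rfl⟩ := List.getElem_of_mem hy
    rw [← List.getD_eq_getElem Lg 1 hl]
    show Φ (fl Lg l) = fl Lg l
    by_cases h1 : l = 1
    · subst h1; exact hk
    · rw [← frame.Ψ_fl h1, hΨ]
  | one => simp
  | mul a b _ _ ha hb => rw [map_mul, map_mul, ha, hb]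
  | inv a _ ha => rw [map_inv, map_inv, ha]

/-- An automorphism preserving the class and fixing the copy of `Fi23 × 2` is inner. -/
theorem inner_of_fix_HB {Φ : MulAut Cfsg.Spor.Fi24} (hD : ∀ y ∈ conjugatesOf s, Φ y ∈ conjugatesOf s)
    (hΨ : ∀ a, Φ (frame.Ψ a) = frame.Ψ a) : ∃ g, MulAut.conj g = Φ := by
  have hfs : Φ s = s := by rw [← Ψ_tau, hΨ]
  obtain ⟨g, hg⟩ := isConj_iff.1 (hD kk (conj_letter 1 (by norm_num)))
  have hfix : ∀ a ∈ K2, act a (ρ g none) = ρ g none := fun a ha => by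
    have hc : Commute (frame.Ψ a) (g * s * g⁻¹) := by
      rw [hg, ← hΨ a]
      exact ((commute_kk a).2 ha).map Φ.toMonoidHom
    have h1 : ρ (g⁻¹ * frame.Ψ a * g) none = none := by
      refine comm_iff.1 ?_
      calc g⁻¹ * frame.Ψ a * g * s * (g⁻¹ * frame.Ψ a * g)⁻¹
          = g⁻¹ * (frame.Ψ a * (g * s * g⁻¹) * (frame.Ψ a)⁻¹) * g := by group
        _ = g⁻¹ * (g * s * g⁻¹) * g := by rw [hc.eq, mul_inv_cancel_right]
        _ = s := by group
    rwa [map_mul, map_mul, Equiv.Perm.mul_apply, Equiv.Perm.mul_apply, ρ_Ψ, map_inv, Equiv.Perm.inv_def,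
      Equiv.symm_apply_eq] at h1
  have hk2 : kk⁻¹ = kk := inv_eq_of_mul_eq_one_right k_sq
  have hs2 : s⁻¹ = s := inv_eq_of_mul_eq_one_right s_sq
  rcases fixed_point hfix with e | e | e
  · exfalso
    have h := comm_iff.2 e
    rw [hg, ← hfs] at h
    have := Φ.injective h
    exact k_not_comm (by rw [show fl Lg 1 = s from this])
  · -- the image is `s k s`
    have h := conj_eq_of_point (g := g) (h := kk) (by rw [ρ_kk, κ_none]; exact e)
    rw [hg, hk2, ← s_braid] at h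
    refine ⟨s, (eq_of_mul_inv_eq_one ?_).symm⟩
    refine eq_one_of_fix (fun a => ?_) ?_
    · show Φ ((MulAut.conj s)⁻¹ (frame.Ψ a)) = frame.Ψ a
      rw [MulAut.conj_inv_apply, show s⁻¹ * frame.Ψ a * s = frame.Ψ a by
        rw [hs2, ← Ψ_tau, ← map_mul, ← map_mul]
        congr 1
        exact Prod.ext (by simp) (by rw [Prod.snd_mul, Prod.snd_mul, mul_right_comm, tau_sq, one_mul]), hΨ]
    · show Φ ((MulAut.conj s)⁻¹ kk) = kk
      rw [MulAut.conj_inv_apply, hs2, map_mul, map_mul, hfs, h, ← mul_assoc, ← mul_assoc, s_sq, one_mul,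
        mul_assoc, s_sq, mul_one]
  · -- the image is `k`
    have h := conj_eq_of_point (g := g) (h := s * kk) (by
      rw [map_mul, Equiv.Perm.mul_apply, ρ_kk, κ_none]; exact e)
    have e' : s * kk * s * (s * kk)⁻¹ = kk := by
      rw [mul_inv_rev, hk2, hs2, show s * kk * s * (kk * s) = s * (kk * s * kk) * s by group, ← s_braid,
        ← mul_assoc, ← mul_assoc, s_sq, one_mul, mul_assoc, s_sq, mul_one]
    rw [hg, e'] at h
    exact ⟨1, by rw [map_one, eq_one_of_fix hΨ h]⟩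

theorem closure_a23 : Subgroup.closure (conjugatesOf a23) = (⊤ : Subgroup Cfsg.Spor.Fi23) := by
  rw [a23_class]; exact Fi23.threeTransp.2.2

/-- An automorphism preserving the class and fixing `s` is inner. -/
theorem inner_of_fix_s {Φ : MulAut Cfsg.Spor.Fi24} (hD : ∀ y ∈ conjugatesOf s, Φ y ∈ conjugatesOf s)
    (hs : Φ s = s) : ∃ g, MulAut.conj g = Φ := by
  haveI := card_A.1
  haveI : Finite Cfsg.Spor.Fi23 := Fi23.card_le.1
  have hrange : ∀ a : A, ∃ b, frame.Ψ b = Φ (frame.Ψ a) := fun a => by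
    have h : Φ (frame.Ψ a) ∈ frame.Ψ.range := by
      rw [frame.range_Ψ, ← centralizer_s, Subgroup.mem_centralizer_singleton_iff, ← hs, ← map_mul, ← map_mul,
        ← Ψ_tau, ← map_mul, ← map_mul]
      congr 2
      exact Prod.ext (by simp) (mul_comm _ _)
    exact h
  choose β hβ using hrange
  let α : Cfsg.Spor.Fi23 →* Cfsg.Spor.Fi23 := MonoidHom.mk' (fun x => (β (x, 1)).1) fun x y => by
    rw [← Prod.fst_mul]
    refine congrArg Prod.fst (Ψ_injective ?_)
    rw [map_mul, hβ, hβ, hβ, ← map_mul, ← map_mul, Prod.mk_mul_mk, mul_one]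
  have hβt : β (1, tau) = (1, tau) := Ψ_injective (by rw [hβ, Ψ_tau, hs])
  have hαinj : Function.Injective α := by
    refine (injective_iff_map_eq_one α).2 fun x hx => ?_
    have hx' : (β (x, 1)).1 = 1 := hx
    rcases tau_cases (β (x, 1)).2 with e | e
    · have h1 : β (x, 1) = 1 := Prod.ext hx' e
      have := Φ.injective (((hβ (x, 1)).symm.trans (by rw [h1, map_one])).trans (map_one Φ).symm)
      rw [← map_one frame.Ψ] at this
      exact congrArg Prod.fst (Ψ_injective this)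
    · have h1 : β (x, 1) = β (1, tau) := by rw [hβt]; exact Prod.ext hx' e
      have := Ψ_injective (Φ.injective (((hβ (x, 1)).symm.trans (by rw [h1])).trans (hβ (1, tau))))
      exact absurd (congrArg Prod.snd this).symm tau_ne_one
  obtain ⟨x₀, hx₀⟩ := Fi23Out.inner_all (MulEquiv.ofBijective α (Finite.injective_iff_bijective.1 hαinj))
  have hα : ∀ x, x₀ * x * x₀⁻¹ = (β (x, 1)).1 := fun x => DFunLike.congr_fun hx₀ x
  set c := frame.Ψ ((x₀, 1) : A) with hc
  set Φ' := (MulAut.conj c)⁻¹ * Φ with hΦ'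
  have hD' : ∀ y ∈ conjugatesOf s, Φ' y ∈ conjugatesOf s := fun y hy => by
    show (MulAut.conj c)⁻¹ (Φ y) ∈ _
    rw [MulAut.conj_inv_apply]
    exact (hD y hy).trans (isConj_iff.2 ⟨c⁻¹, by rw [inv_inv]⟩)
  have hs' : Φ' s = s := by
    show (MulAut.conj c)⁻¹ (Φ s) = s
    rw [MulAut.conj_inv_apply, hs, hc, ← Ψ_tau, ← map_inv, ← map_mul, ← map_mul]
    congr 1
    exact Prod.ext (by simp) (by simp)
  have hnb : ∀ z ∈ conjugatesOf a23, Φ' (frame.Ψ (z, tau)) = frame.Ψ (z, tau) := fun z hz => by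
    have hfst : ∃ e, Φ' (frame.Ψ (z, tau)) = frame.Ψ (z, e) := by
      refine ⟨(β (z, tau)).2, ?_⟩
      show (MulAut.conj c)⁻¹ (Φ (frame.Ψ (z, tau))) = _
      rw [MulAut.conj_inv_apply, ← hβ, hc, ← map_inv, ← map_mul, ← map_mul]
      congr 1
      have h1 : β (z, tau) = β (z, 1) * β (1, tau) := Ψ_injective (by
        rw [map_mul, hβ, hβ, hβ, ← map_mul, ← map_mul, Prod.mk_mul_mk, mul_one, one_mul])
      refine Prod.ext ?_ (by simp)
      rw [Prod.fst_mul, Prod.fst_mul, Prod.fst_inv, h1, hβt, Prod.fst_mul, ← hα z]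
      group
    obtain ⟨e, he⟩ := hfst
    have hy : frame.Ψ (z, tau) ∈ {y | y ∈ conjugatesOf s ∧ y ≠ s ∧ Commute s y} :=
      nb_eq ▸ ⟨z, hz, rfl⟩
    have himg : Φ' (frame.Ψ (z, tau)) ∈ {y | y ∈ conjugatesOf s ∧ y ≠ s ∧ Commute s y} := by
      refine ⟨hD' _ hy.1, fun q => hy.2.1 (Φ'.injective (q.trans hs'.symm)), ?_⟩
      have := hy.2.2.map Φ'.toMonoidHom
      rw [show Φ'.toMonoidHom s = s from hs'] at this
      exact this
    rw [nb_eq] at himg
    obtain ⟨z', -, hz'⟩ := himg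
    rw [he] at hz' ⊢
    have he2 : tau = e := congrArg Prod.snd (Ψ_injective hz')
    rw [← he2]
  let Fix : Subgroup A :=
    { carrier := {a | Φ' (frame.Ψ a) = frame.Ψ a}
      one_mem' := by simp
      mul_mem' := fun {a b} ha hb => by
        simp only [Set.mem_setOf_eq] at ha hb ⊢
        rw [map_mul, map_mul, ha, hb]
      inv_mem' := fun {a} ha => by
        simp only [Set.mem_setOf_eq] at ha ⊢
        rw [map_inv, map_inv, ha] }
  have hfix : ∀ a, Φ' (frame.Ψ a) = frame.Ψ a := by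
    have h1t : ((1 : Cfsg.Spor.Fi23), tau) ∈ Fix := by
      show Φ' (frame.Ψ _) = _
      rw [Ψ_tau, hs']
    have h1 : ∀ x : Cfsg.Spor.Fi23, ((x, 1) : A) ∈ Fix := by
      have hle : Subgroup.closure (conjugatesOf a23) ≤ Fix.comap (MonoidHom.inl _ _) :=
        (Subgroup.closure_le _).2 fun z hz => by
          have := mul_mem (hnb z hz : ((z, tau) : A) ∈ Fix) h1t
          rw [Prod.mk_mul_mk, mul_one, tau_sq] at this
          exact this
      intro x
      exact hle (closure_a23 ▸ Subgroup.mem_top x)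
    rintro ⟨x, e⟩
    rcases tau_cases e with rfl | rfl
    · exact h1 x
    · have := mul_mem (h1 x) h1t
      rwa [Prod.mk_mul_mk, mul_one, one_mul] at this
  obtain ⟨g, hg⟩ := inner_of_fix_HB hD' hfix
  exact ⟨c * g, by rw [map_mul, hg, hΦ', mul_inv_cancel_left]⟩

/-- An automorphism preserving the class is inner. -/
theorem inner_of_class {Φ : MulAut Cfsg.Spor.Fi24} (hD : ∀ y ∈ conjugatesOf s, Φ y ∈ conjugatesOf s) :
    ∃ g, MulAut.conj g = Φ := by
  obtain ⟨g, hg⟩ := isConj_iff.1 (hD s (IsConj.refl s))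
  obtain ⟨g', hg'⟩ := inner_of_fix_s (Φ := (MulAut.conj g)⁻¹ * Φ) (fun y hy => by
    show (MulAut.conj g)⁻¹ (Φ y) ∈ _
    rw [MulAut.conj_inv_apply]
    exact (hD y hy).trans (isConj_iff.2 ⟨g⁻¹, by rw [inv_inv]⟩)) (by
    show (MulAut.conj g)⁻¹ (Φ s) = s
    rw [MulAut.conj_inv_apply, ← hg]
    group)
  exact ⟨g * g', by rw [map_mul, hg', mul_inv_cancel_left]⟩

end CfsgLib.Coset.Fi24
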