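import Cfsg.Agent.Coset.Fi24Out.Inner
import Cfsg.Agent.Coset.Fi24Out.Extend

/-!
The outer automorphism group of the commutator subgroup of `Fi24` has order two.
-/

set_option autoImplicit false
set_option linter.style.haveILetI false

namespace CfsgLib.Coset.Fi24

open CfsgLib.Coset

theorem threeGroup : Cfsg.IsThreeTranspositionGroup (conjugatesOf s) :=
  ⟨threeTransp.1, fun g x hx => IsConj.trans (show IsConj s x from hx) (isConj_iff.2 ⟨g, rfl⟩),
    threeTransp.2.2⟩

theorem finite_group : Finite Cfsg.Spor.Fi24 :=
  Nat.finite_of_card_ne_zero (by rw [card_eq]; norm_num)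

theorem exists_point : haveI := finite_group; ∃ d, CfsgLib.ThreeT.Prod.Point24 (conjugatesOf s) d := by
  haveI := finite_group
  exact CfsgLib.ThreeT.Prod.exists_point24 threeGroup primitive type24

theorem card_out : Nat.card (Cfsg.Out Cfsg.Spor.Fi24') = 2 := by
  haveI := finite_group
  obtain ⟨d, P⟩ := exists_point
  exact CfsgLib.Coset.Fi24Out.card_out_commutator P threeTransp.2.2 fun Φ hΦ => inner_of_class hΦ

end CfsgLib.Coset.Fi24
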