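import Cfsg.Agent.Coset.Fi24Out.Classes
import Cfsg.Agent.Spor3T.M24Frame

/-!
Type M(24): an automorphism of the commutator subgroup determines a bijection of the transpositions,
equivariant for conjugation.
-/

set_option autoImplicit false
set_option linter.unusedSectionVars false
set_option linter.style.haveILetI false

namespace CfsgLib.Coset.Fi24Out

open CfsgLib.ThreeT CfsgLib.ThreeT.Prod
open scoped commutatorElement

variable {G : Type*} [Group G] [Finite G] {D : Set G}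

theorem im_coe (φ : MulAut ↥(commutator G)) (l : ↥(commutator G)) :
    im φ (l : G) = ((φ l : ↥(commutator G)) : G) := by
  simp [im, l.2]

theorem im_mem (φ : MulAut ↥(commutator G)) {x : G} (hx : x ∈ commutator G) : im φ x ∈ commutator G := by
  rw [show x = ((⟨x, hx⟩ : ↥(commutator G)) : G) from rfl, im_coe]; exact Subtype.coe_prop _

theorem im_mul (φ : MulAut ↥(commutator G)) {x y : G} (hx : x ∈ commutator G) (hy : y ∈ commutator G) :
    im φ (x * y) = im φ x * im φ y := by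
  rw [show x * y = ((⟨x, hx⟩ * ⟨y, hy⟩ : ↥(commutator G)) : G) from rfl, im_coe, map_mul, Subgroup.coe_mul,
    ← im_coe φ ⟨x, hx⟩, ← im_coe φ ⟨y, hy⟩]

theorem im_inv (φ : MulAut ↥(commutator G)) {x : G} (hx : x ∈ commutator G) :
    im φ x⁻¹ = (im φ x)⁻¹ := by
  rw [show x⁻¹ = ((⟨x, hx⟩⁻¹ : ↥(commutator G)) : G) from rfl, im_coe, map_inv, Subgroup.coe_inv,
    ← im_coe φ ⟨x, hx⟩]

theorem im_symm (φ : MulAut ↥(commutator G)) {x : G} (hx : x ∈ commutator G) :
    im φ.symm (im φ x) = x := by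
  rw [show x = ((⟨x, hx⟩ : ↥(commutator G)) : G) from rfl, im_coe, im_coe, MulEquiv.symm_apply_apply]

theorem im_inj (φ : MulAut ↥(commutator G)) {x y : G} (hx : x ∈ commutator G) (hy : y ∈ commutator G)
    (h : im φ x = im φ y) : x = y := by
  rw [← im_symm φ hx, h, im_symm φ hy]

theorem cent_subtype (l : ↥(commutator G)) :
    (Subgroup.centralizer ({l} : Set ↥(commutator G))).map (commutator G).subtype =
      commutator G ⊓ Subgroup.centralizer ({(l : G)} : Set G) := by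
  ext y
  constructor
  · rintro ⟨z, hz, rfl⟩
    exact ⟨z.2, mem_cent_one.2 ((mem_cent_one.1 hz).map (commutator G).subtype)⟩
  · rintro ⟨hy, hc⟩
    exact ⟨⟨y, hy⟩, mem_cent_one.2 (Subtype.ext (mem_cent_one.1 hc).eq), rfl⟩

theorem cent_map (φ : MulAut ↥(commutator G)) (l : ↥(commutator G)) :
    (Subgroup.centralizer ({l} : Set ↥(commutator G))).map φ.toMonoidHom =
      Subgroup.centralizer ({φ l} : Set ↥(commutator G)) := by
  ext y
  constructor
  · rintro ⟨z, hz, rfl⟩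
    exact mem_cent_one.2 ((mem_cent_one.1 hz).map φ.toMonoidHom)
  · intro hy
    refine ⟨φ.symm y, mem_cent_one.2 ?_, MulEquiv.apply_symm_apply φ y⟩
    simpa using (mem_cent_one.1 hy).map φ.symm.toMonoidHom

theorem card_cent_im (φ : MulAut ↥(commutator G)) {x : G} (hx : x ∈ commutator G) :
    Nat.card ↥(commutator G ⊓ Subgroup.centralizer ({im φ x} : Set G)) =
      Nat.card ↥(commutator G ⊓ Subgroup.centralizer ({x} : Set G)) := by
  obtain ⟨l, rfl⟩ : ∃ l : ↥(commutator G), (l : G) = x := ⟨⟨x, hx⟩, rfl⟩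
  rw [im_coe, ← cent_subtype, ← cent_subtype, Subgroup.card_map_of_injective Subtype.val_injective,
    Subgroup.card_map_of_injective Subtype.val_injective, ← cent_map,
    Subgroup.card_map_of_injective φ.injective]

theorem comm_im (φ : MulAut ↥(commutator G)) {x y : G} (hx : x ∈ commutator G)
    (hy : y ∈ ⁅commutator G ⊓ Subgroup.centralizer ({x} : Set G),
      commutator G ⊓ Subgroup.centralizer ({x} : Set G)⁆) :
    im φ y ∈ ⁅commutator G ⊓ Subgroup.centralizer ({im φ x} : Set G),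
      commutator G ⊓ Subgroup.centralizer ({im φ x} : Set G)⁆ := by
  obtain ⟨l, rfl⟩ : ∃ l : ↥(commutator G), (l : G) = x := ⟨⟨x, hx⟩, rfl⟩
  rw [← cent_subtype, ← Subgroup.map_commutator] at hy
  obtain ⟨k, hk, rfl⟩ := hy
  rw [Subgroup.subtype_apply, im_coe, im_coe, ← cent_subtype, ← Subgroup.map_commutator, ← cent_map,
    ← Subgroup.map_commutator]
  exact ⟨φ k, ⟨k, hk, rfl⟩, rfl⟩

variable {d : G} (P : Point24 D d)

include P

/-- The commutator of the centraliser of a product of two is the centraliser of the pair. -/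
theorem comm_pair {a b : G} (ha : a ∈ D) (hb : b ∈ nb D a) :
    ⁅commutator G ⊓ Subgroup.centralizer ({a * b} : Set G),
      commutator G ⊓ Subgroup.centralizer ({a * b} : Set G)⁆ = PairL a b := by
  obtain ⟨hle, -, hidx, -⟩ := pair_product24 P ha hb
  obtain ⟨-, hq, -⟩ := pair_cover_fi22 P ha hb
  set C := commutator G ⊓ Subgroup.centralizer ({a * b} : Set G)
  refine le_antisymm (Subgroup.commutator_le.2 fun x hx y hy => ?_) ?_
  · have h : (⁅(⟨x, hx⟩ : ↥C), ⟨y, hy⟩⁆) ∈ (PairL a b).subgroupOf C := by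
      rw [commutatorElement_def, Subgroup.mul_mem_iff_of_index_two hidx,
        Subgroup.mul_mem_iff_of_index_two hidx, Subgroup.mul_mem_iff_of_index_two hidx, inv_mem_iff, inv_mem_iff]
      tauto
    exact h
  · have hperf : ⁅(⊤ : Subgroup ↥(PairL a b)), ⊤⁆ = ⊤ := hq.1.commutator_eq_top
    calc PairL a b = (⊤ : Subgroup ↥(PairL a b)).map (PairL a b).subtype := by
          rw [← MonoidHom.range_eq_map, Subgroup.range_subtype]
      _ = ⁅PairL a b, PairL a b⁆ := by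
          rw [← hperf, Subgroup.map_commutator, ← MonoidHom.range_eq_map, Subgroup.range_subtype]
      _ ≤ _ := Subgroup.commutator_mono hle hle

/-- Products of two go to products of two. -/
theorem pr_im (φ : MulAut ↥(commutator G)) {x : G} (h : Pr D x) : Pr D (im φ x) := by
  have hx := pr_mem P h
  have hx' := im_mem φ hx
  have h2 := (facs_two_iff P).1 h
  have ho : orderOf (im φ x) = 2 := by
    obtain ⟨l, rfl⟩ : ∃ l : ↥(commutator G), (l : G) = x := ⟨⟨x, hx⟩, rfl⟩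
    rw [im_coe, Subgroup.orderOf_coe, MulEquiv.orderOf_eq, ← Subgroup.orderOf_coe]
    exact facs_orderOf24 P (by norm_num) (by norm_num) h2
  obtain ⟨m, h1, h4, hf⟩ := invol_short24 P ho
  have hev : m % 2 = 0 := by
    obtain ⟨l, -, hl, hm, -, hp⟩ := hf
    rw [← hp] at hx'
    rw [← hl]; exact (prod_mem_commutator24 P hm).1 hx'
  obtain rfl | rfl : m = 2 ∨ m = 4 := by omega
  · exact (facs_two_iff P).2 hf
  exfalso
  obtain ⟨a, b, c, e, ha, hb, hc, he, nbc, nbe, nce, cbc, cbe, cce, hprod⟩ := facs_four hf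
  obtain ⟨k, hk⟩ := quad_dvd P (t := im φ x) (a := a) (b := b) (c := c) (e := e)
    ⟨ha, hb.1, hc.1, he.1, hb.2.2, hc.2.2, he.2.2, cbc, cbe, cce, hb.2.1.symm, hc.2.1.symm, he.2.1.symm,
      nbc, nbe, nce, hprod⟩
  obtain ⟨u, hu, v, hv, rfl⟩ := h
  have h5 := card_cent_pair P hu hv
  rw [card_cent_comm P (i := 2) (by norm_num) h2, ← card_cent_im φ hx,
    ← card_cent_comm P (i := 4) (by norm_num) hf, hk] at h5
  omega

theorem share_facts {x y : G} (h : Share D x y) : Pr D x ∧ Pr D y ∧ x ≠ y ∧ Pr D (x * y) ∧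
    y ∈ ⁅commutator G ⊓ Subgroup.centralizer ({x} : Set G),
      commutator G ⊓ Subgroup.centralizer ({x} : Set G)⁆ := by
  obtain ⟨a, ha, b, hb, c, hc, hbc, cbc, rfl, rfl⟩ := h
  refine ⟨⟨a, ha, b, hb, rfl⟩, ⟨a, ha, c, hc, rfl⟩, fun q => hbc (mul_left_cancel q),
    ⟨b, hb.1, c, ⟨hc.1, hbc.symm, cbc⟩, ?_⟩, ?_⟩
  · calc b * c = b * (a * a) * c := by rw [P.base.tt.sq a ha, mul_one]
      _ = b * a * (a * c) := by group
      _ = a * b * (a * c) := by rw [hb.2.2.eq]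
  · rw [comm_pair P ha hb, mem_pairL]
    exact ⟨pr_mem P ⟨a, ha, c, hc, rfl⟩, (Commute.refl a).mul_left hc.2.2.symm, hb.2.2.mul_left cbc.symm⟩

theorem share_of {x y : G} (hx : Pr D x) (hy : Pr D y) (hne : x ≠ y) (hxy : Pr D (x * y))
    (hc : y ∈ ⁅commutator G ⊓ Subgroup.centralizer ({x} : Set G),
      commutator G ⊓ Subgroup.centralizer ({x} : Set G)⁆) : Share D x y := by
  obtain ⟨a, ha, b, hb, rfl⟩ := hx
  obtain ⟨c, hcD, e, he, rfl⟩ := hy
  rw [comm_pair P ha hb, mem_pairL] at hc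
  obtain ⟨-, hya, hyb⟩ := hc
  obtain ⟨cca, cea⟩ := (commute_mul_iff0 P.base.tt hcD he.1 ha he.2.2 he.2.1.symm).1 hya
  obtain ⟨ccb, ceb⟩ := (commute_mul_iff0 P.base.tt hcD he.1 hb.1 he.2.2 he.2.1.symm).1 hyb
  by_cases e1 : c = a
  · subst e1
    exact ⟨c, ha, b, hb, e, he, fun q => hne (by rw [q]), ceb.symm, rfl, rfl⟩
  by_cases e2 : e = a
  · subst e2
    exact ⟨e, ha, b, hb, c, nb_symm hcD he, fun q => hne (by rw [q]; exact he.2.2.eq.symm), ccb.symm, rfl,
      he.2.2.eq.symm⟩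
  by_cases e3 : c = b
  · subst e3
    exact ⟨c, hcD, a, nb_symm ha hb, e, he, fun q => e2 q.symm, cea.symm, hb.2.2.eq.symm, rfl⟩
  by_cases e4 : e = b
  · subst e4
    exact ⟨e, he.1, a, nb_symm ha hb, c, nb_symm hcD he, fun q => e1 q.symm, cca.symm, hb.2.2.eq.symm,
      he.2.2.eq.symm⟩
  exfalso
  have h4 : Facs D 4 (a * b * (c * e)) := by
    refine ⟨[a, b, c, e], ?_, rfl, by simpa using ⟨ha, hb.1, hcD, he.1⟩, ?_, by simp [mul_assoc]⟩
    · simp [hb.2.1.symm, Ne.symm e1, Ne.symm e2, Ne.symm e3, Ne.symm e4, he.2.1.symm]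
    · simp only [List.mem_cons, List.not_mem_nil, or_false, forall_eq_or_imp, forall_eq]
      exact ⟨⟨Commute.refl _, hb.2.2, cca.symm, cea.symm⟩, ⟨hb.2.2.symm, Commute.refl _, ccb.symm, ceb.symm⟩,
        ⟨cca, ccb, Commute.refl _, he.2.2⟩, cea, ceb, he.2.2.symm, Commute.refl _⟩
  exact facs_four_ne P (by norm_num) (by norm_num) h4 ((facs_two_iff P).1 hxy)

theorem share_im (φ : MulAut ↥(commutator G)) {x y : G} (h : Share D x y) :
    Share D (im φ x) (im φ y) := by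
  obtain ⟨hx, hy, hne, hxy, hc⟩ := share_facts P h
  have hxL := pr_mem P hx
  have hyL := pr_mem P hy
  refine share_of P (pr_im P φ hx) (pr_im P φ hy) (fun q => hne (im_inj φ hxL hyL q)) ?_ (comm_im φ hxL hc)
  rw [← im_mul φ hxL hyL]
  exact pr_im P φ hxy

omit P in
/-- `p` is one of the two factors of `x`. -/
def End (D : Set G) (p x : G) : Prop := p ∈ D ∧ ∃ q ∈ nb D p, p * q = x

theorem end_two {p a b : G} (h : End D p (a * b)) (ha : a ∈ D) (hb : b ∈ nb D a) : p = a ∨ p = b := by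
  obtain ⟨hp, q, hq, e⟩ := h
  rcases pair_unique P hp hq ha hb e with ⟨r, -⟩ | ⟨r, -⟩
  · exact Or.inl r
  · exact Or.inr r

theorem share_three {a b c c' p : G} (φ : MulAut ↥(commutator G)) (ha : a ∈ D) (hb : b ∈ nb D a)
    (hc : c ∈ nb D a) (hc' : c' ∈ nb D a) (nbc : b ≠ c) (nbc' : b ≠ c') (ncc : c ≠ c') (cbc : Commute b c)
    (cbc' : Commute b c') (ccc : Commute c c') (hpb : End D p (im φ (a * b))) (hpc : End D p (im φ (a * c))) :
    End D p (im φ (a * c')) := by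
  have hL : ∀ {y : G}, y ∈ nb D a → a * y ∈ commutator G := fun hy => pr_mem P ⟨a, ha, _, hy, rfl⟩
  have hXY := share_im P φ (⟨a, ha, b, hb, c, hc, nbc, cbc, rfl, rfl⟩ : Share D (a * b) (a * c))
  have hXZ := share_im P φ (⟨a, ha, b, hb, c', hc', nbc', cbc', rfl, rfl⟩ : Share D (a * b) (a * c'))
  have hYZ := share_im P φ (⟨a, ha, c, hc, c', hc', ncc, ccc, rfl, rfl⟩ : Share D (a * c) (a * c'))
  have hne := (share_facts P hXY).2.2.1
  obtain ⟨hp, q, hq, eX⟩ := hpb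
  obtain ⟨-, r, hr, eY⟩ := hpc
  have nqr : q ≠ r := fun e => hne (by rw [← eX, ← eY, e])
  obtain ⟨s, hs, t, ht, u, hu, -, -, eX', eZ⟩ := hXZ
  obtain ⟨s', hs', t', ht', u', hu', -, -, eY', eZ'⟩ := hYZ
  have hZ : End D s (im φ (a * c')) := ⟨hs, u, hu, eZ⟩
  have hZ' : End D s' (im φ (a * c')) := ⟨hs', u', hu', eZ'⟩
  have h1 : s = p ∨ s = q := end_two P ⟨hs, t, ht, eX'.trans eX.symm⟩ hp hq
  have h2 : s' = p ∨ s' = r := end_two P ⟨hs', t', ht', eY'.trans eY.symm⟩ hp hr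
  rcases h1 with h1 | h1
  · exact h1 ▸ hZ
  rcases h2 with h2 | h2
  · exact h2 ▸ hZ'
  exfalso
  subst h1 h2
  rw [← eZ] at hZ'
  rcases end_two P hZ' hs hu with h | h
  · exact nqr h.symm
  have key : im φ (a * b * (a * c)) = im φ (a * c') := by
    rw [im_mul φ (hL hb) (hL hc), ← eX, ← eY, ← eZ, ← h]
    calc p * s * (p * s') = s * (p * p) * s' := by rw [hq.2.2.eq]; group
      _ = s * s' := by rw [P.base.tt.sq p hp, mul_one]
  have key' := im_inj φ (mul_mem (hL hb) (hL hc)) (hL hc') key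
  have e : b * c = a * c' := by
    rw [← key']
    calc b * c = b * (a * a) * c := by rw [P.base.tt.sq a ha, mul_one]
      _ = b * a * (a * c) := by group
      _ = a * b * (a * c) := by rw [hb.2.2.eq]
  rcases pair_unique P hb.1 ⟨hc.1, nbc.symm, cbc⟩ ha hc' e with ⟨q, -⟩ | ⟨q, -⟩
  · exact hb.2.1 q
  · exact nbc' q

theorem share_all {a b c c' p : G} (φ : MulAut ↥(commutator G)) (ha : a ∈ D) (hb : b ∈ nb D a)
    (hc : c ∈ nb D a ∧ c ≠ b ∧ Commute b c) (hc' : c' ∈ nb D a ∧ c' ≠ b ∧ Commute b c')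
    (hpb : End D p (im φ (a * b))) (hpc : End D p (im φ (a * c))) :
    End D p (im φ (a * c')) := by
  by_cases e : c = c'
  · exact e ▸ hpc
  by_cases cc : Commute c c'
  · exact share_three P φ ha hb hc.1 hc'.1 hc.2.1.symm hc'.2.1.symm e hc.2.2 hc'.2.2 cc hpb hpc
  have hr := ((geo24 P).loc a ha).card_three c hc.1 c' hc'.1 b hb cc hc.2.2 hc'.2.2
  obtain ⟨y, hy, nyb, cyc, cyc', cyb⟩ : {y | y ∈ nb D a ∧ y ≠ b ∧ Commute y c ∧ Commute y c' ∧
      Commute y b}.Nonempty := Set.nonempty_of_ncard_ne_zero (by rw [hr]; norm_num)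
  have ncy : c ≠ y := fun q => cc (q ▸ cyc')
  have nyc' : y ≠ c' := fun q => cc (q ▸ cyc).symm
  have h1 := share_three P φ ha hb hc.1 hy hc.2.1.symm nyb.symm ncy hc.2.2 cyb.symm cyc.symm hpb hpc
  exact share_three P φ ha hb hy hc'.1 nyb.symm hc'.2.1.symm nyc' cyb.symm hc'.2.2 cyc' hpb h1

theorem exists_point_im (φ : MulAut ↥(commutator G)) {a : G} (ha : a ∈ D) :
    ∃ p, ∀ b ∈ nb D a, End D p (im φ (a * b)) := by
  obtain ⟨b, hb, -⟩ := exists_other P (card_nb24 P ha) ∅ (by simp)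
  obtain ⟨c, hc, -⟩ := exists_other P (card_pair24 P ha hb) ∅ (by simp)
  obtain ⟨s, hs, t, ht, u, hu, -, -, eX, eY⟩ := share_im P φ
    (⟨a, ha, b, hb, c, hc.1, hc.2.1.symm, hc.2.2, rfl, rfl⟩ : Share D (a * b) (a * c))
  have hsb : End D s (im φ (a * b)) := ⟨hs, t, ht, eX⟩
  have hsc : End D s (im φ (a * c)) := ⟨hs, u, hu, eY⟩
  refine ⟨s, fun b' hb' => ?_⟩
  by_cases e : b' = b
  · exact e ▸ hsb
  by_cases cb : Commute b b'
  · exact share_all P φ ha hb hc ⟨hb', e, cb⟩ hsb hsc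
  have hm := ((geo24 P).loc a ha).card_line b hb b' hb' cb
  obtain ⟨y, hy, cyb, cyb'⟩ : {y | y ∈ nb D a ∧ Commute y b ∧ Commute y b'}.Nonempty :=
    Set.nonempty_of_ncard_ne_zero (by rw [hm]; norm_num)
  have nyb : y ≠ b := fun q => cb (q ▸ cyb')
  have nyb' : y ≠ b' := fun q => cb (q ▸ cyb).symm
  have h1 := share_all P φ ha hb hc ⟨hy, nyb, cyb.symm⟩ hsb hsc
  exact share_all P φ ha hy ⟨hb, nyb.symm, cyb⟩ ⟨hb', nyb'.symm, cyb'⟩ h1 hsb

theorem point_im_unique (φ : MulAut ↥(commutator G)) {a p p' : G} (ha : a ∈ D)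
    (h : ∀ b ∈ nb D a, End D p (im φ (a * b))) (h' : ∀ b ∈ nb D a, End D p' (im φ (a * b))) : p = p' := by
  by_contra hne
  obtain ⟨b, hb, -⟩ := exists_other P (card_nb24 P ha) ∅ (by simp)
  obtain ⟨c, hc, hcb⟩ := exists_other P (card_nb24 P ha) {b} (by simp)
  have key : ∀ {y}, y ∈ nb D a → im φ (a * y) = p * p' := fun {y} hy => by
    obtain ⟨hp, q, hq, e⟩ := h y hy
    have h2 := h' y hy
    rw [← e] at h2
    rcases end_two P h2 hp hq with r | r
    · exact absurd r.symm hne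
    · rw [← e, r]
  exact hcb (mul_left_cancel (im_inj φ (pr_mem P ⟨a, ha, c, hc, rfl⟩) (pr_mem P ⟨a, ha, b, hb, rfl⟩)
    ((key hc).trans (key hb).symm)))

omit P in
open Classical in
/-- The map on transpositions. -/
noncomputable def psi (D : Set G) (φ : MulAut ↥(commutator G)) (a : G) : G :=
  if h : ∃ p, ∀ b ∈ nb D a, End D p (im φ (a * b)) then h.choose else a

theorem psi_spec (φ : MulAut ↥(commutator G)) {a : G} (ha : a ∈ D) :
    ∀ b ∈ nb D a, End D (psi D φ a) (im φ (a * b)) := by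
  rw [psi, dif_pos (exists_point_im P φ ha)]
  exact (exists_point_im P φ ha).choose_spec

theorem psi_eq (φ : MulAut ↥(commutator G)) {a p : G} (ha : a ∈ D)
    (h : ∀ b ∈ nb D a, End D p (im φ (a * b))) : psi D φ a = p :=
  point_im_unique P φ ha (psi_spec P φ ha) h

theorem psi_mem (φ : MulAut ↥(commutator G)) {a : G} (ha : a ∈ D) : psi D φ a ∈ D := by
  obtain ⟨b, hb, -⟩ := exists_other P (card_nb24 P ha) ∅ (by simp)
  exact (psi_spec P φ ha b hb).1

theorem im_pair (φ : MulAut ↥(commutator G)) {a b : G} (ha : a ∈ D) (hb : b ∈ nb D a) :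
    psi D φ b ∈ nb D (psi D φ a) ∧ im φ (a * b) = psi D φ a * psi D φ b := by
  obtain ⟨hp, q, hq, eX⟩ := psi_spec P φ ha b hb
  have h2 := psi_spec P φ hb.1 a (nb_symm ha hb)
  rw [← hb.2.2.eq, ← eX] at h2
  rcases end_two P h2 hp hq with e | e
  swap
  · exact ⟨e ▸ hq, by rw [e, eX]⟩
  exfalso
  obtain ⟨c, hc, -⟩ := exists_other P (card_pair24 P ha hb) ∅ (by simp)
  obtain ⟨-, r, hr, eY⟩ := psi_spec P φ ha c hc.1
  have h3 := psi_spec P φ hb.1 c ⟨hc.1.1, hc.2.1, hc.2.2⟩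
  have hL : ∀ {y : G}, y ∈ nb D a → a * y ∈ commutator G := fun hy => pr_mem P ⟨a, ha, _, hy, rfl⟩
  have nqr : q ≠ r := fun h => hc.2.1 (mul_left_cancel
    (im_inj φ (hL hc.1) (hL hb) (by rw [← eX, ← eY, h])))
  have cqr : Commute q r := by
    obtain ⟨s, hs, t, ht, u, hu, -, ctu, e1, e2⟩ := share_im P φ
      (⟨a, ha, b, hb, c, hc.1, hc.2.1.symm, hc.2.2, rfl, rfl⟩ : Share D (a * b) (a * c))
    rw [← eX] at e1
    rw [← eY] at e2
    rcases pair_unique P hs ht hp hq e1 with ⟨r1, r2⟩ | ⟨r1, r2⟩ <;>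
      rcases pair_unique P hs hu hp hr e2 with ⟨s1, s2⟩ | ⟨s1, s2⟩
    · rwa [r2, s2] at ctu
    · exact absurd (r1.symm.trans s1) hr.2.1.symm
    · exact absurd (r1.symm.trans s1) hq.2.1
    · exact absurd (r1.symm.trans s1) nqr
  have key : im φ (b * c) = q * r := by
    rw [show b * c = a * b * (a * c) by
      calc b * c = b * (a * a) * c := by rw [P.base.tt.sq a ha, mul_one]
        _ = b * a * (a * c) := by group
        _ = a * b * (a * c) := by rw [hb.2.2.eq], im_mul φ (hL hb) (hL hc.1), ← eX, ← eY]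
    calc psi D φ a * q * (psi D φ a * r) = q * (psi D φ a * psi D φ a) * r := by rw [hq.2.2.eq]; group
      _ = q * r := by rw [P.base.tt.sq _ hp, mul_one]
  rw [key, e] at h3
  rcases end_two P h3 hq.1 ⟨hr.1, nqr.symm, cqr⟩ with g | g
  · exact hq.2.1 g.symm
  · exact hr.2.1 g.symm

theorem psi_symm (φ : MulAut ↥(commutator G)) {a : G} (ha : a ∈ D) :
    psi D φ.symm (psi D φ a) = a := by
  have key : ∀ b ∈ nb D a, psi D φ.symm (psi D φ a) = a ∨ psi D φ.symm (psi D φ a) = b := fun b hb => by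
    obtain ⟨h1, h2⟩ := im_pair P φ ha hb
    have h3 := psi_spec P φ.symm (psi_mem P φ ha) _ h1
    rw [← h2, im_symm φ (pr_mem P ⟨a, ha, b, hb, rfl⟩)] at h3
    exact end_two P h3 ha hb
  obtain ⟨b, hb, -⟩ := exists_other P (card_nb24 P ha) ∅ (by simp)
  obtain ⟨c, hc, hcb⟩ := exists_other P (card_nb24 P ha) {b} (by simp)
  rcases key b hb with e | e
  · exact e
  rcases key c hc with e' | e'
  · exact e'
  · exact absurd (e'.symm.trans e) hcb

theorem psi_inj (φ : MulAut ↥(commutator G)) {a b : G} (ha : a ∈ D) (hb : b ∈ D)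
    (h : psi D φ a = psi D φ b) : a = b := by
  rw [← psi_symm P φ ha, h, psi_symm P φ hb]

theorem psi_commute (φ : MulAut ↥(commutator G)) {a b : G} (ha : a ∈ D) (hb : b ∈ D) (h : Commute a b) :
    Commute (psi D φ a) (psi D φ b) := by
  by_cases e : b = a
  · subst e; exact Commute.refl _
  · exact (im_pair P φ ha ⟨hb, e, h⟩).1.2.2

theorem psi_conj (φ : MulAut ↥(commutator G)) {a l : G} (ha : a ∈ D) (hl : l ∈ commutator G) :
    psi D φ (l * a * l⁻¹) = im φ l * psi D φ a * (im φ l)⁻¹ := by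
  have hT := P.base.tt
  refine psi_eq P φ (hT.conj l a ha) fun b' hb' => ?_
  obtain ⟨b, rfl⟩ : ∃ b, l * b * l⁻¹ = b' := ⟨l⁻¹ * b' * l, by group⟩
  have hb := (mem_nb_conj hT l).1 hb'
  obtain ⟨h1, h2⟩ := im_pair P φ ha hb
  refine ⟨hT.conj _ _ (psi_mem P φ ha), im φ l * psi D φ b * (im φ l)⁻¹, (mem_nb_conj hT _).2 h1, ?_⟩
  have hab : a * b ∈ commutator G := pr_mem P ⟨a, ha, b, hb, rfl⟩
  rw [show l * a * l⁻¹ * (l * b * l⁻¹) = l * (a * b) * l⁻¹ by group, im_mul φ (mul_mem hl hab) (inv_mem hl),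
    im_mul φ hl hab, im_inv φ hl, h2]
  group

theorem psi_refl (φ : MulAut ↥(commutator G)) {t x : G} (ht : t ∈ D) (hx : x ∈ D) :
    psi D φ (t * x * t) = psi D φ t * psi D φ x * psi D φ t := by
  have hT := P.base.tt
  by_cases h : Commute t x
  · rw [h.eq, mul_assoc, hT.sq t ht, mul_one, (psi_commute P φ ht hx h).eq, mul_assoc,
      hT.sq _ (psi_mem P φ ht), mul_one]
  obtain ⟨b, hb⟩ := Level.tri_nonempty (geo24 P).toPre arith24 ht hx h
  have hbD : b ∈ D := hb.1.1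
  have cbx : Commute b x := hb.2
  have hbt : b ∈ nb D t := hb.1
  have htb : t * b ∈ commutator G := pr_mem P ⟨t, ht, b, hbt, rfl⟩
  have e1 : t * x * t = t * b * x * (t * b)⁻¹ := by
    rw [mul_inv_rev, hT.inv ht, show t * b * x * (b⁻¹ * t) = t * (b * x * b⁻¹) * t by group, cbx.eq,
      mul_inv_cancel_right]
  rw [e1, psi_conj P φ hx htb, (im_pair P φ ht hbt).2, mul_inv_rev, hT.inv (psi_mem P φ ht)]
  have hc := psi_commute P φ hbD hx cbx
  rw [show psi D φ t * psi D φ b * psi D φ x * ((psi D φ b)⁻¹ * psi D φ t) =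
    psi D φ t * (psi D φ b * psi D φ x * (psi D φ b)⁻¹) * psi D φ t by group, hc.eq, mul_inv_cancel_right]

end CfsgLib.Coset.Fi24Out
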